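import Mathlib

/-!
# A verified search for families of integer vectors with given sum (helper745)

`srch k tri kill f cs n t acc` enumerates the multisets of at most `n` members of the candidate list `cs` with sum `t` (the
first `k` coordinates of all candidates are `≥ 0` with positive sum, `cs` is sorted by this sum, and the triples `(a, b, c)` of
`tri` satisfy `x_a² ≤ x_b x_c` for all candidates), and tests the boolean `kill` on each solution.
`srch_sound` : if the test returns `true`, then every family of pairs `(candidate, x)` with sum `t` is, in some order, a list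
whose list of first components passes `kill`.

Typical use: candidates = feature vectors `(q₀², q₁², q₂², q₀q₁, ...)` of rows `q`, `t` = Gram matrix; `x` = the row together with
further values; `kill` = no assignment of the further values.
-/

set_option autoImplicit false

namespace Cfsg.Agent.H745.LB

/-- coordinate -/
def ev (l : List ℤ) (i : ℕ) : ℤ := l.getD i 0

def sb (a b : List ℤ) : List ℤ := List.zipWith (fun x y => x - y) a b

theorem sb_length {m : ℕ} {a b : List ℤ} (ha : a.length = m) (hb : b.length = m) : (sb a b).length = m := by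
  simp [sb, ha, hb]

theorem ev_sb {m : ℕ} {a b : List ℤ} (ha : a.length = m) (hb : b.length = m) (i : ℕ) : ev (sb a b) i = ev a i - ev b i := by
  unfold ev sb
  rw [List.getD_eq_getElem?_getD, List.getD_eq_getElem?_getD, List.getD_eq_getElem?_getD, List.getElem?_zipWith]
  by_cases h : i < m
  · rw [List.getElem?_eq_getElem (by rw [ha]; exact h), List.getElem?_eq_getElem (by rw [hb]; exact h)]
    rfl
  · rw [List.getElem?_eq_none (by rw [ha]; omega), List.getElem?_eq_none (by rw [hb]; omega)]
    rfl

/-- all coordinates vanish -/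
def isZ (a : List ℤ) : Bool := a.all (fun x => x == 0)

theorem isZ_spec {a : List ℤ} (h : isZ a = true) (i : ℕ) : ev a i = 0 := by
  unfold ev
  rw [List.getD_eq_getElem?_getD]
  by_cases hi : i < a.length
  · rw [List.getElem?_eq_getElem hi]
    have := (List.all_eq_true.1 h) _ (List.getElem_mem hi)
    simpa using this
  · rw [List.getElem?_eq_none (by omega)]
    rfl

theorem isZ_of {a : List ℤ} (h : ∀ i, ev a i = 0) : isZ a = true := by
  unfold isZ
  rw [List.all_eq_true]
  intro x hx
  obtain ⟨i, hi, rfl⟩ := List.getElem_of_mem hx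
  have := h i
  unfold ev at this
  rw [List.getD_eq_getElem?_getD, List.getElem?_eq_getElem hi] at this
  simpa using this

/-- one of the first `k` coordinates is negative -/
def ng (k : ℕ) (a : List ℤ) : Bool := (a.take k).any (fun x => decide (x < 0))

theorem ng_spec {k : ℕ} {a : List ℤ} (h : ng k a = true) : ∃ i < k, ev a i < 0 := by
  unfold ng at h
  rw [List.any_eq_true] at h
  obtain ⟨x, hx, h1⟩ := h
  obtain ⟨i, hi, rfl⟩ := List.getElem_of_mem hx
  rw [List.length_take] at hi
  refine ⟨i, by omega, ?_⟩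
  unfold ev
  rw [List.getD_eq_getElem?_getD, List.getElem?_eq_getElem (by omega)]
  rw [List.getElem_take] at h1
  simpa using h1

/-- the trace -/
def tr (k : ℕ) (c : List ℤ) : ℤ := (c.take k).sum

/-- `t` cannot be a sum of candidates -/
def bad (k : ℕ) (tri : List (ℕ × ℕ × ℕ)) (t : List ℤ) : Bool :=
  ng k t || tri.any fun p => decide (ev t p.2.1 * ev t p.2.2 < ev t p.1 * ev t p.1)

/-- the search; `true` = every solution passes `kill` -/
def srch (k : ℕ) (tri : List (ℕ × ℕ × ℕ)) (kill : List (List ℤ) → Bool) :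
    ℕ → List (List ℤ) → ℕ → List ℤ → List (List ℤ) → Bool
  | 0, _, _, _, _ => false
  | f + 1, cs, n, t, acc =>
    bif isZ t then kill acc else
      match n with
      | 0 => true
      | n + 1 =>
        match cs with
        | [] => true
        | c :: cs' =>
          decide (((n : ℤ) + 1) * tr k c < tr k t) ||
          (srch k tri kill f cs' (n + 1) t acc &&
            (bad k tri (sb t c) || srch k tri kill f (c :: cs') n (sb t c) (c :: acc)))

theorem srch_z {k : ℕ} {tri : List (ℕ × ℕ × ℕ)} {kill : List (List ℤ) → Bool} {f : ℕ} {cs : List (List ℤ)} {n : ℕ}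
    {t : List ℤ} {acc : List (List ℤ)} (hz : isZ t = true) : srch k tri kill (f + 1) cs n t acc = kill acc := by
  show (bif isZ t then kill acc else _) = _
  rw [hz]
  rfl

theorem srch_c {k : ℕ} {tri : List (ℕ × ℕ × ℕ)} {kill : List (List ℤ) → Bool} {f : ℕ} {c : List ℤ} {cs : List (List ℤ)}
    {n : ℕ} {t : List ℤ} {acc : List (List ℤ)} (hz : isZ t = false) :
    srch k tri kill (f + 1) (c :: cs) (n + 1) t acc = (decide (((n : ℤ) + 1) * tr k c < tr k t) ||
      (srch k tri kill f cs (n + 1) t acc &&
        (bad k tri (sb t c) || srch k tri kill f (c :: cs) n (sb t c) (c :: acc)))) := by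
  show (bif isZ t then kill acc else _) = _
  rw [hz]
  rfl

/-- the candidates are good -/
def good (k m : ℕ) (tri : List (ℕ × ℕ × ℕ)) : List (List ℤ) → Bool
  | [] => true
  | c :: cs => ((c.length == m) && ((c.take k).all (fun x => decide (0 ≤ x))) && decide (0 < tr k c) &&
      (tri.all fun p => decide (ev c p.1 * ev c p.1 ≤ ev c p.2.1 * ev c p.2.2) && decide (p.2.1 < k) && decide (p.2.2 < k)) &&
      (cs.all fun d => decide (tr k d ≤ tr k c))) && good k m tri cs

theorem good_cons {k m : ℕ} {tri : List (ℕ × ℕ × ℕ)} {c : List ℤ} {cs : List (List ℤ)}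
    (h : good k m tri (c :: cs) = true) : good k m tri cs = true := by
  rw [good, Bool.and_eq_true] at h
  exact h.2

theorem good_mem {k m : ℕ} {tri : List (ℕ × ℕ × ℕ)} : ∀ {cs : List (List ℤ)} {c : List ℤ}, good k m tri cs = true →
    c ∈ cs → c.length = m ∧ (∀ x ∈ c.take k, 0 ≤ x) ∧ 0 < tr k c ∧
      ∀ p ∈ tri, ev c p.1 * ev c p.1 ≤ ev c p.2.1 * ev c p.2.2 ∧ p.2.1 < k ∧ p.2.2 < k
  | [], _, _, hc => by simp at hc
  | d :: cs, c, h, hc => by
    rcases List.mem_cons.1 hc with rfl | hc
    · rw [good, Bool.and_eq_true] at h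
      have := h.1
      simp only [Bool.and_eq_true, beq_iff_eq, List.all_eq_true, decide_eq_true_eq] at this
      exact ⟨this.1.1.1.1, this.1.1.1.2, this.1.1.2, fun p hp => ⟨(this.1.2 p hp).1.1, (this.1.2 p hp).1.2, (this.1.2 p hp).2⟩⟩
    · exact good_mem (good_cons h) hc

theorem good_tr {k m : ℕ} {tri : List (ℕ × ℕ × ℕ)} {c : List ℤ} {cs : List (List ℤ)}
    (h : good k m tri (c :: cs) = true) {d : List ℤ} (hd : d ∈ c :: cs) : tr k d ≤ tr k c := by
  rcases List.mem_cons.1 hd with rfl | hd
  · exact le_rfl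
  · rw [good, Bool.and_eq_true] at h
    have := h.1
    simp only [Bool.and_eq_true, List.all_eq_true, decide_eq_true_eq] at this
    exact this.2 d hd

theorem ev_take_sum : ∀ (k : ℕ) (l : List ℤ), (l.take k).sum = ∑ i ∈ Finset.range k, ev l i
  | 0, l => by simp
  | k + 1, [] => by
    have : ∀ i, ev [] i = 0 := fun i => by simp [ev]
    simp [this]
  | k + 1, x :: l => by
    rw [List.take_succ_cons, List.sum_cons, Finset.sum_range_succ', ev_take_sum k l, add_comm]
    congr 1

theorem good_nonneg {k m : ℕ} {tri : List (ℕ × ℕ × ℕ)} {c : List ℤ} {cs : List (List ℤ)} (h : good k m tri cs = true)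
    (hc : c ∈ cs) {i : ℕ} (hi : i < k) : 0 ≤ ev c i := by
  obtain ⟨-, h1, -, -⟩ := good_mem h hc
  unfold ev
  rw [List.getD_eq_getElem?_getD]
  by_cases hi' : i < c.length
  · rw [List.getElem?_eq_getElem hi']
    refine h1 _ ?_
    rw [List.mem_take_iff_getElem]
    exact ⟨i, by omega, rfl⟩
  · rw [List.getElem?_eq_none (by omega)]
    exact le_rfl

variable {α : Type*}

/-- the sum of the `i`-th coordinates -/
def sm (s : Multiset (List ℤ × α)) (i : ℕ) : ℤ := (s.map fun p => ev p.1 i).sum

theorem sm_cons (p : List ℤ × α) (s : Multiset (List ℤ × α)) (i : ℕ) : sm (p ::ₘ s) i = ev p.1 i + sm s i := by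
  rw [sm, Multiset.map_cons, Multiset.sum_cons]
  rfl

theorem sm_nonneg {k m : ℕ} {tri : List (ℕ × ℕ × ℕ)} {cs : List (List ℤ)} (hg : good k m tri cs = true)
    {s : Multiset (List ℤ × α)} (hs : ∀ p ∈ s, p.1 ∈ cs) {i : ℕ} (hi : i < k) : 0 ≤ sm s i := by
  apply Multiset.sum_nonneg
  intro x hx
  obtain ⟨p, hp, rfl⟩ := Multiset.mem_map.1 hx
  exact good_nonneg hg (hs p hp) hi

/-- the trace of a sum -/
theorem tr_sm {k m : ℕ} {tri : List (ℕ × ℕ × ℕ)} {cs : List (List ℤ)} {c : List ℤ}
    (hg : good k m tri (c :: cs) = true) (s : Multiset (List ℤ × α)) :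
    (∀ p ∈ s, p.1 ∈ c :: cs) → ∑ i ∈ Finset.range k, sm s i ≤ Multiset.card s * tr k c := by
  induction s using Multiset.induction_on with
  | empty => intro _; simp [sm]
  | cons p s ih =>
    intro hs
    have h1 := ih fun q hq => hs q (Multiset.mem_cons_of_mem hq)
    have h2 := good_tr hg (hs p (Multiset.mem_cons_self p s))
    simp only [sm_cons, Finset.sum_add_distrib]
    rw [← ev_take_sum k p.1, Multiset.card_cons]
    push_cast
    have h3 : (p.1.take k).sum = tr k p.1 := rfl
    rw [h3]
    linarith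

/-- Cauchy-Schwarz -/
theorem cs_add {a b c a' b' c' : ℤ} (h : a * a ≤ b * c) (h' : a' * a' ≤ b' * c') (hb : 0 ≤ b) (hc : 0 ≤ c) (hb' : 0 ≤ b')
    (hc' : 0 ≤ c') : (a + a') * (a + a') ≤ (b + b') * (c + c') := by
  have h1 : 2 * (a * a') ≤ b * c' + b' * c := by
    by_contra hcon
    push Not at hcon
    have h2 : 0 ≤ b * c' + b' * c := by positivity
    have h3 : (b * c' + b' * c) * (b * c' + b' * c) < (2 * (a * a')) * (2 * (a * a')) := mul_self_lt_mul_self h2 hcon
    have h4 : (a * a) * (a' * a') ≤ (b * c) * (b' * c') := mul_le_mul h h' (mul_self_nonneg _) (by positivity)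
    nlinarith [sq_nonneg (b * c' - b' * c)]
  nlinarith

theorem sm_cs {k m : ℕ} {tri : List (ℕ × ℕ × ℕ)} {cs : List (List ℤ)} (hg : good k m tri cs = true) {p : ℕ × ℕ × ℕ}
    (hp : p ∈ tri) (s : Multiset (List ℤ × α)) : (∀ q ∈ s, q.1 ∈ cs) →
    sm s p.1 * sm s p.1 ≤ sm s p.2.1 * sm s p.2.2 := by
  induction s using Multiset.induction_on with
  | empty => intro _; simp [sm]
  | cons q s ih =>
    intro hs
    have hs' : ∀ r ∈ s, r.1 ∈ cs := fun r hr => hs r (Multiset.mem_cons_of_mem hr)
    have h1 := ih hs'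
    have hq := hs q (Multiset.mem_cons_self q s)
    obtain ⟨h2, hb, hc⟩ := (good_mem hg hq).2.2.2 p hp
    simp only [sm_cons]
    exact cs_add h2 h1 (good_nonneg hg hq hb) (good_nonneg hg hq hc) (sm_nonneg hg hs' hb) (sm_nonneg hg hs' hc)

theorem not_bad {k m : ℕ} {tri : List (ℕ × ℕ × ℕ)} {cs : List (List ℤ)} (hg : good k m tri cs = true)
    {s : Multiset (List ℤ × α)} (hs : ∀ q ∈ s, q.1 ∈ cs) {t : List ℤ} (hsum : ∀ i, sm s i = ev t i) :
    bad k tri t ≠ true := by
  intro h
  unfold bad at h
  rw [Bool.or_eq_true] at h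
  rcases h with h | h
  · obtain ⟨i, hi, hneg⟩ := ng_spec h
    have := sm_nonneg hg hs hi
    rw [hsum] at this
    omega
  · rw [List.any_eq_true] at h
    obtain ⟨p, hp, h1⟩ := h
    have h2 := sm_cs hg hp s hs
    rw [hsum, hsum, hsum] at h2
    have h3 : ev t p.2.1 * ev t p.2.2 < ev t p.1 * ev t p.1 := by simpa using h1
    omega

theorem eq_zero_of {k m : ℕ} {tri : List (ℕ × ℕ × ℕ)} {cs : List (List ℤ)} (hg : good k m tri cs = true)
    {s : Multiset (List ℤ × α)} (hs : ∀ p ∈ s, p.1 ∈ cs) (h0 : ∀ i, sm s i = 0) : s = 0 := by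
  by_contra hne
  obtain ⟨p, hp⟩ := Multiset.exists_mem_of_ne_zero hne
  obtain ⟨s', rfl⟩ := Multiset.exists_cons_of_mem hp
  have h1 : 0 < tr k p.1 := (good_mem hg (hs p hp)).2.2.1
  have h2 : ∑ i ∈ Finset.range k, sm (p ::ₘ s') i = 0 := Finset.sum_eq_zero fun i _ => h0 i
  simp only [sm_cons, Finset.sum_add_distrib] at h2
  rw [← ev_take_sum k p.1] at h2
  have h3 : 0 ≤ ∑ i ∈ Finset.range k, sm s' i := Finset.sum_nonneg fun i hi =>
    sm_nonneg hg (fun q hq => hs q (Multiset.mem_cons_of_mem hq)) (Finset.mem_range.1 hi)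
  have h4 : (p.1.take k).sum = tr k p.1 := rfl
  rw [h4] at h2
  omega

/-- **Soundness.** -/
theorem srch_sound {k m : ℕ} {tri : List (ℕ × ℕ × ℕ)} {kill : List (List ℤ) → Bool} : ∀ (f : ℕ) (cs : List (List ℤ))
    (n : ℕ) (t : List ℤ) (acc : List (List ℤ)), srch k tri kill f cs n t acc = true → good k m tri cs = true →
    t.length = m → ∀ (s : Multiset (List ℤ × α)) (accP : List (List ℤ × α)), accP.map Prod.fst = acc →
    Multiset.card s ≤ n → (∀ p ∈ s, p.1 ∈ cs) → (∀ i, sm s i = ev t i) →
    ∃ L : List (List ℤ × α), (L : Multiset (List ℤ × α)) = s + accP ∧ kill (L.map Prod.fst) = true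
  | 0, _, _, _, _, h, _, _, _, _, _, _, _, _ => by simp [srch] at h
  | f + 1, cs, n, t, acc, h, hg, ht, s, accP, hacc, hn, hs, hsum => by
    by_cases hz : isZ t = true
    · rw [srch_z hz] at h
      have h1 : s = 0 := eq_zero_of hg hs fun i => by rw [hsum i, isZ_spec hz i]
      refine ⟨accP, by rw [h1, zero_add], ?_⟩
      rw [hacc]
      exact h
    · have hz' : isZ t = false := by simpa using hz
      have hs0 : s ≠ 0 := by
        rintro rfl
        apply hz
        apply isZ_of
        intro i
        rw [← hsum i]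
        simp [sm]
      match n, cs, h, hg, hn, hs with
      | 0, _, _, _, hn, _ =>
        exact absurd (Multiset.card_eq_zero.1 (Nat.le_zero.1 hn)) hs0
      | n + 1, [], _, _, _, hs =>
        obtain ⟨p, hp⟩ := Multiset.exists_mem_of_ne_zero hs0
        exact absurd (hs p hp) (by simp)
      | n + 1, c :: cs', h, hg, hn, hs =>
        rw [srch_c hz', Bool.or_eq_true, Bool.and_eq_true, Bool.or_eq_true, decide_eq_true_eq] at h
        have hcl : c.length = m := (good_mem hg (List.mem_cons_self ..)).1
        rcases h with h | ⟨h1, h2⟩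
        · exfalso
          have h3 := tr_sm hg s hs
          have h4 : ∑ i ∈ Finset.range k, sm s i = tr k t := by
            rw [tr, ev_take_sum]
            exact Finset.sum_congr rfl fun i _ => hsum i
          have h5 : 0 < tr k c := (good_mem hg (List.mem_cons_self ..)).2.2.1
          have h6 : (Multiset.card s : ℤ) * tr k c ≤ ((n : ℤ) + 1) * tr k c := by
            apply mul_le_mul_of_nonneg_right _ h5.le
            exact_mod_cast hn
          rw [h4] at h3
          omega
        by_cases hc : ∃ p ∈ s, p.1 = c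
        · obtain ⟨p, hp, hpc⟩ := hc
          obtain ⟨s', rfl⟩ := Multiset.exists_cons_of_mem hp
          have hsum' : ∀ i, sm s' i = ev (sb t c) i := by
            intro i
            have h3 := hsum i
            rw [sm_cons, hpc] at h3
            rw [ev_sb ht hcl]
            omega
          have hs' : ∀ q ∈ s', q.1 ∈ c :: cs' := fun q hq => hs q (Multiset.mem_cons_of_mem hq)
          have h2 := h2.resolve_left (not_bad hg hs' hsum')
          obtain ⟨L, hL, hk⟩ := srch_sound f (c :: cs') n (sb t c) (c :: acc) h2 hg (sb_length ht hcl) s' (p :: accP)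
            (by rw [List.map_cons, hacc, hpc]) (by
              rw [Multiset.card_cons] at hn
              omega) hs' hsum'
          refine ⟨L, ?_, hk⟩
          rw [hL, ← Multiset.cons_coe, Multiset.add_cons, Multiset.cons_add]
        · refine srch_sound f cs' (n + 1) t acc h1 (good_cons hg) ht s accP hacc hn ?_ hsum
          intro p hp
          rcases List.mem_cons.1 (hs p hp) with h3 | h3
          · exact absurd ⟨p, hp, h3⟩ hc
          · exact h3

/-- **The form for a family.** `F u` = feature vector of `u`; the members with `F u ∈ cs` are the ones that count, the others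
have zero feature vector. -/
theorem srch_family {U : Type*} [Fintype U] {k m : ℕ} {tri : List (ℕ × ℕ × ℕ)} {kill : List (List ℤ) → Bool} {f : ℕ}
    {cs : List (List ℤ)} {n : ℕ} {t : List ℤ} (h : srch k tri kill f cs n t [] = true) (hg : good k m tri cs = true)
    (ht : t.length = m) (F : U → List ℤ) (hn : Fintype.card U ≤ n) (hF : ∀ u, F u ∈ cs ∨ ∀ i, ev (F u) i = 0)
    (hsum : ∀ i, ∑ u, ev (F u) i = ev t i) :
    ∃ L : List U, L.Nodup ∧ (∀ u, u ∈ L ↔ F u ∈ cs) ∧ kill (L.map F) = true := by
  classical
  obtain ⟨S, hS⟩ : ∃ S : Finset U, ∀ u, u ∈ S ↔ F u ∈ cs := ⟨Finset.univ.filter fun u => F u ∈ cs, fun u => by simp⟩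
  have h1 : ∀ i, ∑ u ∈ S, ev (F u) i = ev t i := by
    intro i
    rw [← hsum i]
    apply Finset.sum_subset (Finset.subset_univ _)
    intro u _ hu
    rcases hF u with h2 | h2
    · exact absurd ((hS u).2 h2) hu
    · exact h2 i
  obtain ⟨L, hL, hk⟩ := srch_sound f cs n t [] h hg ht (S.val.map fun u => (F u, u)) [] rfl
    (by
      rw [Multiset.card_map]
      exact (Finset.card_le_univ S).trans hn)
    (by
      intro p hp
      obtain ⟨u, hu, rfl⟩ := Multiset.mem_map.1 hp
      exact (hS u).1 hu)
    (by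
      intro i
      rw [sm, Multiset.map_map]
      exact h1 i)
  have hL' : ((L.map Prod.snd : List U) : Multiset U) = S.val := by
    have h2 := congrArg (Multiset.map Prod.snd) hL
    rw [Multiset.map_coe] at h2
    rw [h2]
    simp [Multiset.map_map]
  have hpair : ∀ p ∈ L, p.1 = F p.2 := by
    intro p hp
    have h2 : p ∈ (L : Multiset _) := hp
    rw [hL] at h2
    simp only [Multiset.coe_nil, add_zero] at h2
    obtain ⟨u, -, rfl⟩ := Multiset.mem_map.1 h2
    rfl
  refine ⟨L.map Prod.snd, ?_, ?_, ?_⟩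
  · rw [← Multiset.coe_nodup, hL']
    exact S.nodup
  · intro u
    have h2 : u ∈ L.map Prod.snd ↔ u ∈ S.val := by rw [← hL']; exact Multiset.mem_coe.symm
    rw [h2, Finset.mem_val, hS]
  · rw [List.map_map]
    have h2 : L.map (F ∘ Prod.snd) = L.map Prod.fst := List.map_congr_left fun p hp => (hpair p hp).symm
    rw [h2]
    exact hk

end Cfsg.Agent.H745.LB
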